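import Groth.Agent.Brauer.Index
import Groth.Prelude.Def_GSzCSA
import Mathlib.FieldTheory.Galois.Basic

/-! Cyclic algebras: normal form, universal property, simplicity. -/

set_option autoImplicit false

universe u v w w'

open scoped TensorProduct

namespace Groth.Agent.CycAlgP

open Groth.Agent.Brauer

section Rel

variable {k : Type u} [Field k] {K : Type v} [Field K] [Algebra k K]
variable {A : Type w} [Ring A] [Algebra k A]

/-- The relations of a cyclic algebra. -/
structure Rel (σ : K ≃ₐ[k] K) (b : k) (ι : K →ₐ[k] A) (y : A) : Prop where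
  pow : y ^ Module.finrank k K = algebraMap k A b
  comm : ∀ x, ι x * y = y * ι (σ x)

variable {σ : K ≃ₐ[k] K} {b : k} {ι : K →ₐ[k] A} {y : A}

theorem Rel.comm_pow (h : Rel σ b ι y) : ∀ (i : ℕ) (x : K), ι x * y ^ i = y ^ i * ι ((σ ^ i) x)
  | 0, x => by simp
  | i + 1, x => by
    rw [pow_succ, ← mul_assoc, h.comm_pow i x, mul_assoc, h.comm, ← mul_assoc, pow_succ' σ, AlgEquiv.mul_apply]

theorem Rel.pow_comm (h : Rel σ b ι y) (i : ℕ) (x : K) : y ^ i * ι x = ι ((σ ^ i).symm x) * y ^ i := by
  rw [h.comm_pow, AlgEquiv.apply_symm_apply]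

/-- The monomial map. -/
noncomputable def bas (k : Type u) [Field k] {K : Type v} [Field K] [Algebra k K] {A : Type w} [Ring A]
    [Algebra k A] (ι : K →ₐ[k] A) (y : A) : (Fin (Module.finrank k K) → K) →ₗ[k] A :=
  ∑ i : Fin (Module.finrank k K), (LinearMap.mulRight k (y ^ (i : ℕ))).comp (ι.toLinearMap.comp (LinearMap.proj i))

theorem bas_apply (a : Fin (Module.finrank k K) → K) : bas k ι y a = ∑ i, ι (a i) * y ^ (i : ℕ) := by
  simp [bas, LinearMap.sum_apply]

theorem bas_single (i : Fin (Module.finrank k K)) (c : K) :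
    bas k ι y (Pi.single i c) = ι c * y ^ (i : ℕ) := by
  classical
  rw [bas_apply, Finset.sum_eq_single i]
  · rw [Pi.single_eq_same]
  · intro j _ hj
    rw [Pi.single_eq_of_ne hj, map_zero, zero_mul]
  · simp

variable [FiniteDimensional k K]

theorem Rel.monomial (h : Rel σ b ι y) (m : ℕ) :
    ∃ (i : Fin (Module.finrank k K)) (r : k), ∀ a, ι a * y ^ m = bas k ι y (Pi.single i (r • a)) ∧
      (i : ℕ) = m % Module.finrank k K ∧ r = b ^ (m / Module.finrank k K) := by
  refine ⟨⟨m % Module.finrank k K, Nat.mod_lt _ Module.finrank_pos⟩, b ^ (m / Module.finrank k K),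
    fun a => ⟨?_, rfl, rfl⟩⟩
  rw [bas_single, map_smul, smul_mul_assoc]
  conv_lhs => rw [← Nat.mod_add_div m (Module.finrank k K), pow_add, pow_mul, h.pow, ← map_pow]
  rw [← Algebra.commutes, Algebra.smul_def, ← mul_assoc (ι a), ← mul_assoc, Algebra.commutes]

theorem Rel.range_mul (h : Rel σ b ι y) {p q : A} (hp : p ∈ LinearMap.range (bas k ι y))
    (hq : q ∈ LinearMap.range (bas k ι y)) : p * q ∈ LinearMap.range (bas k ι y) := by
  obtain ⟨a, rfl⟩ := hp
  obtain ⟨c, rfl⟩ := hq
  rw [bas_apply, bas_apply, Finset.sum_mul_sum]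
  refine Submodule.sum_mem _ fun i _ => Submodule.sum_mem _ fun j _ => ?_
  rw [show ι (a i) * y ^ (i : ℕ) * (ι (c j) * y ^ (j : ℕ)) =
    ι (a i * (σ ^ (i : ℕ)).symm (c j)) * y ^ ((i : ℕ) + j) by
      rw [mul_assoc, ← mul_assoc (y ^ (i : ℕ)), h.pow_comm, map_mul, pow_add]; simp only [mul_assoc]]
  obtain ⟨l, r, hl⟩ := h.monomial ((i : ℕ) + j)
  exact ⟨_, (hl _).1.symm⟩

theorem Rel.one_mem (h : Rel σ b ι y) : (1 : A) ∈ LinearMap.range (bas k ι y) := by
  obtain ⟨l, r, hl⟩ := h.monomial 0
  exact ⟨_, by rw [← (hl 1).1, map_one, pow_zero, mul_one]⟩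

/-- The span of the monomials. -/
noncomputable def Rel.span (h : Rel σ b ι y) : Subalgebra k A :=
  (LinearMap.range (bas k ι y)).toSubalgebra h.one_mem fun _ _ => h.range_mul

theorem Rel.mem_span (h : Rel σ b ι y) {x : A} : x ∈ h.span ↔ x ∈ LinearMap.range (bas k ι y) := Iff.rfl

theorem Rel.ι_mem (h : Rel σ b ι y) (a : K) : ι a ∈ h.span := by
  obtain ⟨l, r, hl⟩ := h.monomial 0
  exact ⟨_, by rw [← (hl a).1, pow_zero, mul_one]⟩

theorem Rel.y_mem (h : Rel σ b ι y) : y ∈ h.span := by
  obtain ⟨l, r, hl⟩ := h.monomial 1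
  exact ⟨_, by rw [← (hl 1).1, pow_one, map_one, one_mul]⟩

theorem Rel.adjoin_eq (h : Rel σ b ι y) : Algebra.adjoin k (Set.range ι ∪ {y}) = h.span := by
  refine le_antisymm (Algebra.adjoin_le ?_) ?_
  · rintro x (⟨a, rfl⟩ | rfl)
    · exact h.ι_mem a
    · exact h.y_mem
  · rintro x ⟨a, rfl⟩
    rw [bas_apply]
    refine sum_mem fun i _ => ?_
    refine mul_mem ?_ (pow_mem ?_ _)
    · exact Algebra.subset_adjoin (Or.inl ⟨_, rfl⟩)
    · exact Algebra.subset_adjoin (Or.inr rfl)

end Rel

section Pres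

variable {k : Type u} [Field k] {K : Type v} [Field K] [Algebra k K] [FiniteDimensional k K]
variable {σ : K ≃ₐ[k] K} {A : Type w} [Ring A] [Algebra k A]

/-- A presentation with bijective normal form. -/
structure Pres (σ : K ≃ₐ[k] K) (b : kˣ) (A : Type w) [Ring A] [Algebra k A] where
  ι : K →ₐ[k] A
  y : A
  rel : Rel σ (b : k) ι y
  bij : Function.Bijective (bas k ι y)

theorem exists_pres {b : kˣ} (hA : CSAGal.IsCyclicAlg k K σ b A) : Nonempty (Pres σ b A) := by
  obtain ⟨ι, y, hy, hc, hg, hn, hd⟩ := hA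
  have h : Rel σ (b : k) ι y := ⟨hy, hc⟩
  haveI : FiniteDimensional k A := Module.finite_of_finrank_pos (by rw [hd]; positivity)
  have hs : Function.Surjective (bas k ι y) := fun x => by
    have : x ∈ h.span := by rw [← h.adjoin_eq, hg]; trivial
    exact this
  refine ⟨⟨ι, y, h, ?_, hs⟩⟩
  refine (LinearMap.injective_iff_surjective_of_finrank_eq_finrank ?_).2 hs
  rw [Module.finrank_pi_fintype, Finset.sum_const, Finset.card_univ, Fintype.card_fin, smul_eq_mul, hd, sq]

variable {b : kˣ} (P : Pres σ b A)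

include P in
theorem Pres.finrank : Module.finrank k A = Module.finrank k K * Module.finrank k K := by
  rw [← (LinearEquiv.ofBijective _ P.bij).finrank_eq, Module.finrank_pi_fintype, Finset.sum_const,
    Finset.card_univ, Fintype.card_fin, smul_eq_mul]

include P in
theorem Pres.finite : FiniteDimensional k A :=
  Module.Finite.equiv (LinearEquiv.ofBijective _ P.bij)

include P in
theorem Pres.isCyclicAlg : CSAGal.IsCyclicAlg k K σ b A := by
  refine ⟨P.ι, P.y, P.rel.pow, P.rel.comm, ?_, Module.finrank_pos, by rw [P.finrank, sq]⟩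
  rw [P.rel.adjoin_eq, eq_top_iff]
  exact fun x _ => P.bij.2 x

theorem Pres.induction {motive : A → Prop} (h0 : motive 0) (hadd : ∀ p q, motive p → motive q → motive (p + q))
    (hm : ∀ (a : K) (i : ℕ), motive (P.ι a * P.y ^ i)) (x : A) : motive x := by
  obtain ⟨a, rfl⟩ := P.bij.2 x
  rw [bas_apply]
  exact Finset.sum_induction _ motive hadd h0 fun i _ => hm _ _

section Lift

variable {C : Type w'} [Ring C] [Algebra k C] {ι' : K →ₐ[k] C} {y' : C} (h' : Rel σ (b : k) ι' y')

/-- The linear comparison map. -/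
noncomputable def Pres.liftLin (ι' : K →ₐ[k] C) (y' : C) : A →ₗ[k] C :=
  (bas k ι' y').comp (LinearEquiv.ofBijective _ P.bij).symm.toLinearMap

include h' in
theorem Pres.liftLin_monomial (a : K) (m : ℕ) : P.liftLin ι' y' (P.ι a * P.y ^ m) = ι' a * y' ^ m := by
  obtain ⟨l, r, hl⟩ := P.rel.monomial m
  obtain ⟨l', r', hl'⟩ := h'.monomial m
  obtain ⟨h1, h2, h3⟩ := hl a
  obtain ⟨h1', h2', h3'⟩ := hl' a
  rw [h1, h1', Fin.ext (h2'.trans h2.symm), h3'.trans h3.symm]
  show bas k ι' y' ((LinearEquiv.ofBijective (bas k P.ι P.y) P.bij).symm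
    (LinearEquiv.ofBijective (bas k P.ι P.y) P.bij (Pi.single l (r • a)))) = _
  rw [LinearEquiv.symm_apply_apply]

/-- The universal property. -/
noncomputable def Pres.lift : A →ₐ[k] C :=
  AlgHom.ofLinearMap (P.liftLin ι' y')
    (by simpa using P.liftLin_monomial h' 1 0)
    (fun p q => by
      induction p using P.induction with
      | h0 => simp
      | hadd p₁ p₂ h₁ h₂ => rw [add_mul, map_add, map_add, h₁, h₂, add_mul]
      | hm a i =>
        induction q using P.induction with
        | h0 => simp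
        | hadd q₁ q₂ h₁ h₂ => rw [mul_add, map_add, map_add, h₁, h₂, mul_add]
        | hm c j =>
          rw [show P.ι a * P.y ^ i * (P.ι c * P.y ^ j) = P.ι (a * (σ ^ i).symm c) * P.y ^ (i + j) by
            rw [mul_assoc, ← mul_assoc (P.y ^ i), P.rel.pow_comm, map_mul, pow_add]; simp only [mul_assoc],
            P.liftLin_monomial h', P.liftLin_monomial h', P.liftLin_monomial h', map_mul, pow_add,
            mul_assoc (ι' a) (y' ^ i), ← mul_assoc (y' ^ i), h'.pow_comm]
          simp only [mul_assoc])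

theorem Pres.lift_monomial (a : K) (m : ℕ) : P.lift h' (P.ι a * P.y ^ m) = ι' a * y' ^ m :=
  P.liftLin_monomial h' a m

theorem Pres.lift_ι (a : K) : P.lift h' (P.ι a) = ι' a := by simpa using P.lift_monomial h' a 0

theorem Pres.lift_y : P.lift h' P.y = y' := by simpa using P.lift_monomial h' 1 1

end Lift

variable [IsGalois k K] (hσ : ∀ τ : K ≃ₐ[k] K, τ ∈ Subgroup.zpowers σ)

include hσ in
theorem sigma_pow_eq_one (i : ℕ) : σ ^ i = 1 ↔ Module.finrank k K ∣ i := by
  rw [← orderOf_dvd_iff_pow_eq_one, orderOf_eq_card_of_forall_mem_zpowers hσ, IsGalois.card_aut_eq_finrank]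

include P in
theorem Pres.nontrivial : Nontrivial A :=
  haveI := P.finite
  Module.nontrivial_of_finrank_pos (R := k) (by rw [P.finrank]; exact Nat.mul_pos Module.finrank_pos Module.finrank_pos)

theorem Pres.isUnit_y : IsUnit P.y := by
  have hb : IsUnit (algebraMap k A (b : k)) := b.isUnit.map _
  rw [← P.rel.pow, isUnit_pow_iff (Module.finrank_pos (R := k) (M := K)).ne'] at hb
  exact hb

theorem Pres.mul_bas (a : K) (c : Fin (Module.finrank k K) → K) :
    P.ι a * bas k P.ι P.y c = bas k P.ι P.y fun i => a * c i := by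
  rw [bas_apply, bas_apply, Finset.mul_sum]
  exact Finset.sum_congr rfl fun i _ => by rw [map_mul, mul_assoc]

theorem Pres.bas_mul (a : K) (c : Fin (Module.finrank k K) → K) :
    bas k P.ι P.y c * P.ι a = bas k P.ι P.y fun i => (σ ^ (i : ℕ)).symm a * c i := by
  rw [bas_apply, bas_apply, Finset.sum_mul]
  refine Finset.sum_congr rfl fun i _ => ?_
  rw [mul_assoc, P.rel.pow_comm, ← mul_assoc, ← map_mul, mul_comm]

include P hσ in
/-- A cyclic algebra is central simple. -/
theorem Pres.isCSA : IsCSA k A := by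
  classical
  haveI := P.nontrivial
  let i₀ : Fin (Module.finrank k K) := ⟨0, Module.finrank_pos⟩
  have hne : ∀ i : Fin (Module.finrank k K), i ≠ i₀ → ∃ x : K, (σ ^ (i : ℕ)).symm x ≠ x := by
    intro i hi
    by_contra h
    push Not at h
    have h1 : σ ^ (i : ℕ) = 1 := AlgEquiv.ext fun x => by
      conv_lhs => rw [← h x, AlgEquiv.apply_symm_apply]
      rfl
    exact hi (Fin.ext (Nat.eq_zero_of_dvd_of_lt ((sigma_pow_eq_one hσ i).1 h1) i.2))
  refine ⟨⟨fun z hz => ?_⟩, IsSimpleRing.of_eq_bot_or_eq_top fun I => ?_, P.finite⟩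
  · obtain ⟨c, rfl⟩ := P.bij.2 z
    have hz' := Subalgebra.mem_center_iff.1 hz
    have hc : c = Pi.single i₀ (c i₀) := funext fun i => by
      rcases eq_or_ne i i₀ with rfl | hi
      · rw [Pi.single_eq_same]
      rw [Pi.single_eq_of_ne hi]
      obtain ⟨x, hx⟩ := hne i hi
      have h1 := hz' (P.ι x)
      rw [P.mul_bas, P.bas_mul] at h1
      have h2 := congrFun (P.bij.1 h1) i
      by_contra h0
      exact hx (mul_right_cancel₀ h0 h2).symm
    have hfix : σ (c i₀) = c i₀ := by
      have h1 := hz' P.y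
      rw [hc, bas_single, show (i₀ : ℕ) = 0 from rfl, pow_zero, mul_one, P.rel.comm] at h1
      exact ((RingHom.injective P.ι.toRingHom) ((P.isUnit_y.mul_right_inj).1 h1)).symm
    have hall : ∀ τ : K ≃ₐ[k] K, τ (c i₀) = c i₀ := fun τ => by
      obtain ⟨j, rfl⟩ := (mem_powers_iff_mem_zpowers).2 (hσ τ)
      show (σ ^ j) (c i₀) = _
      induction j with
      | zero => rfl
      | succ j ih => rw [pow_succ, AlgEquiv.mul_apply, hfix, ih]
    obtain ⟨r, hr⟩ := (IsGalois.mem_range_algebraMap_iff_fixed (c i₀)).2 hall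
    refine Algebra.mem_bot.2 ⟨r, ?_⟩
    rw [hc, bas_single, show (i₀ : ℕ) = 0 from rfl, pow_zero, mul_one, ← hr, AlgHom.commutes]
  · by_cases hI : I = ⊥
    · exact Or.inl hI
    refine Or.inr ?_
    let S : Set ℕ := {m | ∃ c : Fin (Module.finrank k K) → K, bas k P.ι P.y c ∈ I ∧ c i₀ ≠ 0 ∧
      (Finset.univ.filter fun i => c i ≠ 0).card = m}
    have hS : S.Nonempty := by
      obtain ⟨x, hx, hx0⟩ : ∃ x ∈ I, x ≠ 0 := by
        by_contra h
        push Not at h
        exact hI (eq_bot_iff.2 fun x hx => h x hx)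
      obtain ⟨c, rfl⟩ := P.bij.2 x
      obtain ⟨i, hi⟩ : ∃ i, c i ≠ 0 := Function.ne_iff.1 fun hc => hx0 (by rw [show c = 0 from hc, map_zero])
      obtain ⟨u, hu⟩ := P.isUnit_y
      -- shift so that the `i`-th coefficient becomes the constant one
      let m := Module.finrank k K - i
      obtain ⟨d, hd⟩ := P.bij.2 (bas k P.ι P.y c * P.y ^ m)
      refine ⟨_, d, by rw [hd]; exact I.mul_mem_right _ _ hx, ?_, rfl⟩
      intro hd0
      have h1 : bas k P.ι P.y d = ∑ j, P.ι (c j) * P.y ^ ((j : ℕ) + m) := by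
        rw [hd, bas_apply, Finset.sum_mul]
        exact Finset.sum_congr rfl fun j _ => by rw [mul_assoc, ← pow_add]
      choose l r hl using fun j : Fin (Module.finrank k K) => P.rel.monomial ((j : ℕ) + m)
      rw [Finset.sum_congr rfl fun j _ => (hl j (c j)).1, ← map_sum] at h1
      have h2 := congrFun (P.bij.1 h1) i₀
      rw [hd0, Finset.sum_apply, Finset.sum_eq_single i] at h2
      · rw [show i₀ = l i from Fin.ext (by
          rw [(hl i (c i)).2.1]; show 0 = _; rw [show (i : ℕ) + m = Module.finrank k K by omega, Nat.mod_self]),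
          Pi.single_eq_same, eq_comm, smul_eq_zero] at h2
        rcases h2 with h2 | h2
        · rw [(hl i (c i)).2.2] at h2
          exact pow_ne_zero _ b.ne_zero h2
        · exact hi h2
      · intro j _ hji
        refine Pi.single_eq_of_ne (fun e => hji (Fin.ext ?_)) _
        have e' : ((j : ℕ) + m) % Module.finrank k K = 0 := by
          rw [← (hl j (c j)).2.1, ← e]
        obtain ⟨q, hq⟩ := Nat.dvd_of_mod_eq_zero e'
        have hj := j.2
        have hi' := i.2
        have hq1 : q = 1 := by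
          rcases Nat.lt_trichotomy q 1 with hq' | hq' | hq'
          · obtain rfl : q = 0 := by omega
            simp at hq; omega
          · exact hq'
          · have : Module.finrank k K * 2 ≤ Module.finrank k K * q := Nat.mul_le_mul_left _ hq'
            omega
        rw [hq1, mul_one] at hq
        omega
      · simp
    obtain ⟨c, hc, hc0, hmin⟩ := Nat.sInf_mem hS
    have hsupp : ∀ i, i ≠ i₀ → c i = 0 := by
      intro i hi
      by_contra hci
      obtain ⟨x, hx⟩ := hne i hi
      -- a shorter element with nonzero constant coefficient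
      let d : Fin (Module.finrank k K) → K := fun j => ((σ ^ (i : ℕ)).symm x - (σ ^ (j : ℕ)).symm x) * c j
      have hd : bas k P.ι P.y d ∈ I := by
        have : bas k P.ι P.y d = P.ι ((σ ^ (i : ℕ)).symm x) * bas k P.ι P.y c - bas k P.ι P.y c * P.ι x := by
          rw [P.mul_bas, P.bas_mul, ← map_sub]
          exact congrArg _ (funext fun j => sub_mul _ _ _)
        rw [this]
        exact I.sub_mem (I.mul_mem_left _ _ hc) (I.mul_mem_right _ _ hc)
      have hd0 : d i₀ ≠ 0 := mul_ne_zero (sub_ne_zero.2 (by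
        rw [show (i₀ : ℕ) = 0 from rfl, pow_zero]; exact hx)) hc0
      have hlt : (Finset.univ.filter fun j => d j ≠ 0).card < (Finset.univ.filter fun j => c j ≠ 0).card := by
        refine Finset.card_lt_card ⟨fun j hj => ?_, fun hsub => ?_⟩
        · simp only [Finset.mem_filter, Finset.mem_univ, true_and] at hj ⊢
          exact fun h => hj (by show _ * c j = 0; rw [h, mul_zero])
        · have := hsub (Finset.mem_filter.2 ⟨Finset.mem_univ i, hci⟩)
          simp [d] at this
      exact absurd (Nat.sInf_le (s := S) ⟨d, hd, hd0, rfl⟩) (not_le.2 (hmin ▸ hlt))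
    have hcs : c = Pi.single i₀ (c i₀) := funext fun i => by
      rcases eq_or_ne i i₀ with rfl | hi
      · rw [Pi.single_eq_same]
      · rw [Pi.single_eq_of_ne hi, hsupp i hi]
    rw [hcs, bas_single, show (i₀ : ℕ) = 0 from rfl, pow_zero, mul_one] at hc
    refine TwoSidedIdeal.ext fun x => ⟨fun _ => trivial, fun _ => ?_⟩
    have h1 := I.mul_mem_left (x * P.ι (c i₀)⁻¹) _ hc
    rwa [mul_assoc, ← map_mul, inv_mul_cancel₀ hc0, map_one, mul_one] at h1

end Pres

end Groth.Agent.CycAlgP
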