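import Groth.Agent.CycAlgP.Tensor
import Groth.Agent.Brauer.Primary

/-! Split algebras are cyclic; periods of cyclic algebras. -/

set_option autoImplicit false

universe u v w w'

open scoped TensorProduct

namespace Groth.Agent.CycAlgP

open Groth.Agent.Brauer

variable {k : Type u} [Field k] {K : Type v} [Field K] [Algebra k K] [FiniteDimensional k K]
variable {A : Type w} [Ring A] [Algebra k A]

/-- A splitting field of the degree embeds. -/
theorem exists_embedding (hA : IsCSA k A) (hd : Module.finrank k A = Module.finrank k K * Module.finrank k K)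
    (h1 : IndDvd K (K ⊗[k] A) 1) : Nonempty (K →ₐ[k] A) := by
  haveI := hA.central; haveI := hA.simple; haveI := hA.finite
  haveI := IsArtinianRing.of_finite k A
  obtain ⟨N, f, h0, hN⟩ := h1
  rw [Module.finrank_baseChange, hd, mul_one, mul_one] at hN
  have hN' : N = Module.finrank k K := Nat.mul_self_inj.1 hN
  let g : A →ₐ[k] Module.End K (Fin N → K) :=
    ((Matrix.toLinAlgEquiv'.toAlgHom.comp f).restrictScalars k).comp Algebra.TensorProduct.includeRight
  letI : Module A (Fin N → K) := Module.compHom _ g.toRingHom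
  haveI : IsScalarTower k A (Fin N → K) := ⟨fun r a v => by
    show g (r • a) v = r • g a v
    rw [map_smul]
    rfl⟩
  have hscal : ∀ (c : K) (a : A) (v : Fin N → K), a • (c • v) = c • (a • v) := fun c a v => map_smul (g a) c v
  obtain ⟨φ⟩ := Azumaya.nonempty_linearEquiv_of_finrank_eq k A (ULift.{max v w} A) (ULift.{max v w} (Fin N → K)) (by
    rw [ULift.moduleEquiv.finrank_eq, ULift.moduleEquiv.finrank_eq, hd, Module.finrank_pi_fintype,
      Finset.sum_const, Finset.card_univ, Fintype.card_fin, smul_eq_mul, hN'])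
  let ψ : (Fin N → K) ≃ₗ[A] A := (ULift.moduleEquiv.symm.trans φ.symm).trans ULift.moduleEquiv
  let j : K → A := fun c => ψ (c • ψ.symm 1)
  have hj : ∀ c (a : A), ψ (c • ψ.symm a) = a * j c := fun c a => by
    have h2 : ψ.symm a = a • ψ.symm 1 := by rw [← map_smul, smul_eq_mul, mul_one]
    rw [h2, ← hscal, map_smul, smul_eq_mul]
  refine ⟨{
    toFun := j
    map_one' := by show ψ ((1 : K) • ψ.symm 1) = 1; rw [one_smul, LinearEquiv.apply_symm_apply]
    map_mul' := fun c d => by
      show ψ ((c * d) • ψ.symm 1) = _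
      rw [mul_comm, ← smul_smul, ← ψ.symm_apply_apply (c • ψ.symm 1), hj]
    map_zero' := by show ψ ((0 : K) • ψ.symm 1) = 0; rw [zero_smul, map_zero]
    map_add' := fun c d => by show ψ ((c + d) • ψ.symm 1) = _; rw [add_smul, map_add]
    commutes' := fun r => by
      show ψ (algebraMap k K r • ψ.symm 1) = algebraMap k A r
      rw [algebraMap_smul, ← algebraMap_smul A r, map_smul, LinearEquiv.apply_symm_apply, smul_eq_mul, mul_one] }⟩

variable [IsGalois k K] {σ : K ≃ₐ[k] K}

/-- Split of the right degree implies cyclic. -/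
theorem exists_pres_of_split (hσ : ∀ τ : K ≃ₐ[k] K, τ ∈ Subgroup.zpowers σ) (hA : IsCSA k A)
    (hd : Module.finrank k A = Module.finrank k K * Module.finrank k K) (h1 : IndDvd K (K ⊗[k] A) 1) :
    ∃ b : kˣ, Nonempty (Pres σ b A) := by
  classical
  haveI := hA.central; haveI := hA.simple; haveI := hA.finite; haveI := hA.nontrivial
  obtain ⟨ι⟩ := exists_embedding hA hd h1
  haveI : FiniteDimensional K (RMod ι) := Module.Finite.of_restrictScalars_finite k K (RMod ι)
  obtain ⟨u, hu⟩ := Azumaya.skolemNoether k A K (ι.comp σ.toAlgHom) ι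
  have hrel : ∀ x, ι x * (u : A) = (u : A) * ι (σ x) := fun x => by
    rw [show ι x = (u : A) * ι (σ x) * (u⁻¹ : Aˣ) from hu x, mul_assoc, Units.inv_mul, mul_one]
  have hpow : ∀ (i : ℕ) (x : K), ι x * (u : A) ^ i = (u : A) ^ i * ι ((σ ^ i) x) := by
    intro i
    induction i with
    | zero => simp
    | succ i ih =>
      intro x
      rw [pow_succ, ← mul_assoc, ih, mul_assoc, hrel, ← mul_assoc, pow_succ' σ, AlgEquiv.mul_apply]
  have hcomm : ∀ x, ι x * (u : A) ^ Module.finrank k K = (u : A) ^ Module.finrank k K * ι x := fun x => by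
    rw [hpow, sigma_pow_finrank hσ]
    rfl
  -- the centraliser of `ι K` is `ι K`
  have hcent : ∀ z : A, (∀ x, ι x * z = z * ι x) → ∃ c, ι c = z := by
    intro z hz
    let T := Algebra.TensorProduct.lift (Algebra.ofId K (Module.End K (RMod ι))) (lmulK ι)
      fun x y => Algebra.commutes x _
    haveI := (hA.baseChange K).simple
    haveI : Nontrivial (Module.End K (RMod ι)) := by
      haveI : Nontrivial (RMod ι) := inferInstanceAs (Nontrivial A)
      infer_instance
    have hT : Function.Surjective T := by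
      refine (LinearMap.injective_iff_surjective_of_finrank_eq_finrank (f := T.toLinearMap) ?_).1
        (RingHom.injective T.toRingHom)
      rw [Module.finrank_baseChange, Module.finrank_linearMap, finrank_rmod ι hd, hd]
    let R : Module.End K (RMod ι) :=
      { toFun := fun x => (toA ι x * z : A)
        map_add' := fun x y => add_mul (toA ι x) (toA ι y) z
        map_smul' := fun c x => by
          show toA ι x * ι c * z = toA ι x * z * ι c
          rw [mul_assoc, hz, mul_assoc] }
    have hR : R ∈ Subalgebra.center K (Module.End K (RMod ι)) := Subalgebra.mem_center_iff.2 fun F => by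
      obtain ⟨t, rfl⟩ := hT F
      induction t using TensorProduct.induction_on with
      | zero => simp
      | tmul c a =>
        rw [Algebra.TensorProduct.lift_tmul]
        refine LinearMap.ext fun x => ?_
        show c • lmulK ι a (R x) = R (c • lmulK ι a x)
        rw [map_smul]
        exact congrArg (c • ·) (show (a * (toA ι x * z) : A) = a * toA ι x * z from (mul_assoc _ _ _).symm)
      | add p q hp hq => rw [map_add, add_mul, mul_add, hp, hq]
    obtain ⟨c, hc⟩ := (Algebra.IsCentral.mem_center_iff (K := K)).1 hR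
    refine ⟨c, ?_⟩
    have h3 := LinearMap.congr_fun hc (lmulK ι (1 : A) (show RMod ι from (1 : A)))
    rw [Algebra.algebraMap_eq_smul_one] at h3
    have h4 : toA ι (R (lmulK ι (1 : A) (show RMod ι from (1 : A)))) = ι c := by
      rw [h3]
      show ((1 : A) * (1 : A)) * ι c = ι c
      rw [one_mul, one_mul]
    rw [← h4]
    show ((1 : A) * (1 : A)) * z = z
    rw [one_mul, one_mul]
  obtain ⟨c, hc⟩ := hcent ((u : A) ^ Module.finrank k K) hcomm
  have hcfix : σ c = c := by
    apply RingHom.injective ι.toRingHom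
    show ι (σ c) = ι c
    have h2 := hrel c
    rw [hc] at h2
    rw [← pow_succ, pow_succ', ← hc] at h2
    exact ((Units.mul_right_inj u).1 h2).symm
  have hall : ∀ τ : K ≃ₐ[k] K, τ c = c := fun τ => by
    obtain ⟨m, rfl⟩ := (mem_powers_iff_mem_zpowers).2 (hσ τ)
    show (σ ^ m) c = c
    induction m with
    | zero => rfl
    | succ m ih => rw [pow_succ, AlgEquiv.mul_apply, hcfix, ih]
  obtain ⟨r, hr⟩ := (IsGalois.mem_range_algebraMap_iff_fixed c).2 hall
  have hr0 : r ≠ 0 := fun h => by
    have h2 := (u.isUnit.pow (Module.finrank k K)).ne_zero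
    rw [← hc, ← hr, h, map_zero, map_zero] at h2
    exact h2 rfl
  refine ⟨Units.mk0 r hr0, ?_⟩
  have h' : Rel σ ((Units.mk0 r hr0 : kˣ) : k) ι (u : A) :=
    ⟨by rw [← hc, ← hr, AlgHom.commutes, Units.val_mk0], hrel⟩
  obtain ⟨C, _, _, ⟨P⟩⟩ := exists_cyclic hσ (Units.mk0 r hr0)
  have hP := P.isCSA hσ
  haveI := hP.simple; haveI := hP.finite
  have hi : Function.Injective (P.lift h') := RingHom.injective (P.lift h').toRingHom
  have hs : Function.Surjective (P.lift h') :=
    (LinearMap.injective_iff_surjective_of_finrank_eq_finrank (f := (P.lift h').toLinearMap)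
      (by rw [P.finrank, hd])).1 hi
  have hb : Function.Surjective (bas k ι (u : A)) := fun a => by
    obtain ⟨x, rfl⟩ := hs a
    obtain ⟨q, rfl⟩ := P.bij.2 x
    refine ⟨q, ?_⟩
    rw [bas_apply, bas_apply, map_sum]
    exact Finset.sum_congr rfl fun i _ => (P.lift_monomial h' _ _).symm
  refine ⟨⟨ι, (u : A), h', (LinearMap.injective_iff_surjective_of_finrank_eq_finrank ?_).2 hb, hb⟩⟩
  rw [Module.finrank_pi_fintype, Finset.sum_const, Finset.card_univ, Fintype.card_fin, smul_eq_mul, hd]

/-- Powers of a cyclic algebra. -/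
theorem Pres.sim_pw (hσ : ∀ τ : K ≃ₐ[k] K, τ ∈ Subgroup.zpowers σ) {b : kˣ} (P : Pres σ b A) :
    ∀ e : ℕ, ∀ (C : Type v) [Ring C] [Algebra k C], Pres σ (b ^ e) C → Sim k (pw k A e) C := by
  intro e
  induction e with
  | zero =>
    intro C _ _ R
    have hs : IndDvd k C 1 := (R.split_iff hσ).2 ⟨1, by rw [map_one, pow_zero, Units.val_one]⟩
    exact ((sim_tensor_split IsCSA.self (R.isCSA hσ) hs).symm.congr_left (pwZero k A).symm).congr
      (Algebra.TensorProduct.lid k C)
  | succ e ih =>
    intro C _ _ R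
    obtain ⟨C', _, _, ⟨Q⟩⟩ := exists_cyclic hσ (b ^ e)
    obtain ⟨f⟩ := tensor_equiv hσ Q P (pow_succ b e ▸ R)
    have hA := P.isCSA hσ
    haveI : NeZero (Module.finrank k K) := ⟨(Module.finrank_pos (R := k) (M := K)).ne'⟩
    refine ((((ih C' Q).tensor (sim_refl hA)).congr_left (pwSucc k A e).symm).congr f).trans
      (IsCSA.of_algEquiv ((Q.isCSA hσ).tensor hA) f) (sim_matrix (R.isCSA hσ) _)

/-- The exponent of a cyclic algebra. -/
theorem Pres.split_pw_iff (hσ : ∀ τ : K ≃ₐ[k] K, τ ∈ Subgroup.zpowers σ) {b : kˣ} (P : Pres σ b A) (e : ℕ) :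
    IndDvd k (pw k A e) 1 ↔ ∃ x : K, Algebra.norm k x = (b : k) ^ e := by
  obtain ⟨C, _, _, ⟨R⟩⟩ := exists_cyclic hσ (b ^ e)
  rw [(P.sim_pw hσ e C R).indDvd_iff ((P.isCSA hσ).pw e) (R.isCSA hσ), R.split_iff hσ, Units.val_pow_eq_pow_val]

end Groth.Agent.CycAlgP

namespace Groth.Agent.CycAlgP

open Groth.Agent.Brauer

theorem indDvd_baseChange_matrix {k : Type u} [Field k] (K : Type v) [Field K] [Algebra k K]
    {D : Type w} [Ring D] [Algebra k D] (hD : IsCSA k D) (s : ℕ) [NeZero s] {n : ℕ} :
    IndDvd K (K ⊗[k] Matrix (Fin s) (Fin s) D) n ↔ IndDvd K (K ⊗[k] D) n := by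
  have hM : IsCSA k (Matrix (Fin s) (Fin s) D) :=
    (hD.tensor (S := Matrix (Fin s) (Fin s) k) ⟨inferInstance, inferInstance, inferInstance⟩).of_algEquiv
      (matrixEquivTensor (Fin s) k D).symm
  let φ : K ⊗[k] Matrix (Fin s) (Fin s) D →ₐ[K] Matrix (Fin s) (Fin s) (K ⊗[k] D) :=
    Algebra.TensorProduct.lift (Algebra.ofId K _) (Algebra.TensorProduct.includeRight (A := K)).mapMatrix
      fun x y => Algebra.commutes x _
  haveI := (hM.baseChange K).simple
  haveI := (hM.baseChange K).finite
  haveI := (hD.baseChange K).nontrivial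
  haveI := (hD.baseChange K).finite
  haveI : Nontrivial (Matrix (Fin s) (Fin s) (K ⊗[k] D)) := inferInstance
  have hi : Function.Injective φ := RingHom.injective φ.toRingHom
  have e : Module.finrank K (K ⊗[k] Matrix (Fin s) (Fin s) D) =
      Module.finrank K (Matrix (Fin s) (Fin s) (K ⊗[k] D)) := by
    rw [Module.finrank_baseChange, Module.finrank_matrix, Module.finrank_matrix, Module.finrank_baseChange]
  rw [indDvd_congr (AlgEquiv.ofBijective φ
    ⟨hi, (LinearMap.injective_iff_surjective_of_finrank_eq_finrank (f := φ.toLinearMap) e).1 hi⟩)]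
  exact indDvd_matrix_iff

end Groth.Agent.CycAlgP
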