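import Groth.Agent.CycAlgP.Basic
import Groth.Agent.Brauer.Period
import Mathlib.RingTheory.Norm.Transitivity

/-! Cyclic algebras: existence, splitting, the norm criterion. -/

set_option autoImplicit false

universe u v w w'

open scoped TensorProduct

namespace Groth.Agent.CycAlgP

open Groth.Agent.Brauer

variable {k : Type u} [Field k] {K : Type v} [Field K] [Algebra k K] [FiniteDimensional k K]
variable {σ : K ≃ₐ[k] K}

section Embedding

variable {A : Type w} [Ring A] [Algebra k A]

/-- `A` with `K` acting on the right. -/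
@[nolint unusedArguments]
def RMod (_ι : K →ₐ[k] A) : Type w := A

variable (ι : K →ₐ[k] A)

instance : AddCommGroup (RMod ι) := inferInstanceAs (AddCommGroup A)
instance : Module k (RMod ι) := inferInstanceAs (Module k A)
instance [FiniteDimensional k A] : FiniteDimensional k (RMod ι) := inferInstanceAs (FiniteDimensional k A)
/-- The underlying element. -/
def toA (x : RMod ι) : A := x

instance : Module K (RMod ι) where
  smul c x := (toA ι x * ι c : A)
  one_smul x := show toA ι x * ι 1 = toA ι x by rw [map_one, mul_one]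
  mul_smul c d x := show toA ι x * ι (c * d) = toA ι x * ι d * ι c by
    rw [mul_comm c d, map_mul, mul_assoc]
  smul_zero c := show (0 : A) * ι c = 0 from zero_mul _
  smul_add c x y := show (toA ι x + toA ι y) * ι c = toA ι x * ι c + toA ι y * ι c from add_mul _ _ _
  add_smul c d x := show toA ι x * ι (c + d) = toA ι x * ι c + toA ι x * ι d by rw [map_add, mul_add]
  zero_smul x := show toA ι x * ι 0 = (0 : A) by rw [map_zero, mul_zero]

instance : IsScalarTower k K (RMod ι) :=
  ⟨fun r c x => show toA ι x * ι (r • c) = r • (toA ι x * ι c) by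
    rw [map_smul, mul_smul_comm]⟩

/-- Left multiplication. -/
noncomputable def lmulK : A →ₐ[k] Module.End K (RMod ι) where
  toFun a := { toFun := fun x => (a * toA ι x : A)
               map_add' := fun x z => mul_add a (toA ι x) (toA ι z)
               map_smul' := fun c x => show a * (toA ι x * ι c) = a * toA ι x * ι c from (mul_assoc _ _ _).symm }
  map_one' := LinearMap.ext fun x => one_mul (toA ι x)
  map_mul' a b := LinearMap.ext fun x => mul_assoc a b (toA ι x)
  map_zero' := LinearMap.ext fun x => zero_mul (toA ι x)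
  map_add' a b := LinearMap.ext fun x => add_mul a b (toA ι x)
  commutes' r := LinearMap.ext fun x => (Algebra.smul_def r (toA ι x)).symm

theorem finrank_rmod [FiniteDimensional k A]
    (hd : Module.finrank k A = Module.finrank k K * Module.finrank k K) :
    Module.finrank K (RMod ι) = Module.finrank k K := by
  have h := Module.finrank_mul_finrank k K (RMod ι)
  rw [show Module.finrank k (RMod ι) = Module.finrank k A from rfl, hd] at h
  exact Nat.eq_of_mul_eq_mul_left Module.finrank_pos h

include ι in
/-- A field of the degree inside `A` splits it. -/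
theorem indDvd_of_embedding [FiniteDimensional k A]
    (hd : Module.finrank k A = Module.finrank k K * Module.finrank k K) :
    IndDvd K (K ⊗[k] A) 1 := by
  haveI : FiniteDimensional K (RMod ι) := Module.Finite.of_restrictScalars_finite k K (RMod ι)
  refine ⟨Module.finrank k K, (algEquivMatrix (Module.finBasisOfFinrankEq K (RMod ι) (finrank_rmod ι hd))).toAlgHom.comp
    (Algebra.TensorProduct.lift (Algebra.ofId K _) (lmulK ι) fun x y => Algebra.commutes x _),
    Module.finrank_pos, ?_⟩
  rw [Module.finrank_baseChange, hd, mul_one, mul_one]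

end Embedding

section Norm

variable [IsGalois k K] (hσ : ∀ τ : K ≃ₐ[k] K, τ ∈ Subgroup.zpowers σ)

include hσ

theorem pow_bijective : Function.Bijective fun i : Fin (Module.finrank k K) => (σ ^ (i : ℕ)).symm := by
  rw [Fintype.bijective_iff_injective_and_card]
  refine ⟨fun i j h => Fin.ext ?_, by rw [Fintype.card_fin, ← Nat.card_eq_fintype_card, IsGalois.card_aut_eq_finrank]⟩
  have hord : orderOf σ = Module.finrank k K := by
    rw [orderOf_eq_card_of_forall_mem_zpowers hσ, IsGalois.card_aut_eq_finrank]
  have h' : σ ^ (i : ℕ) = σ ^ (j : ℕ) := by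
    have := congrArg AlgEquiv.symm h
    simpa using this
  exact pow_injOn_Iio_orderOf (by rw [Set.mem_Iio, hord]; exact i.2) (by rw [Set.mem_Iio, hord]; exact j.2) h'

theorem prod_range_eq_norm (x : K) :
    ∏ i ∈ Finset.range (Module.finrank k K), (σ ^ i).symm x = algebraMap k K (Algebra.norm k x) := by
  rw [Algebra.norm_eq_prod_automorphisms, Finset.prod_range fun i => (σ ^ i).symm x]
  exact Fintype.prod_bijective _ (pow_bijective hσ) _ _ fun i => rfl

theorem sigma_pow_finrank : σ ^ Module.finrank k K = 1 := (sigma_pow_eq_one hσ _).2 dvd_rfl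

end Norm

section Exists

variable (σ)

/-- Componentwise multiplication. -/
noncomputable def ιM : K →ₐ[k] Module.End k (Fin (Module.finrank k K) → K) :=
  Algebra.lsmul k k (Fin (Module.finrank k K) → K)

/-- The twisted shift. -/
noncomputable def yM (b : k) : Module.End k (Fin (Module.finrank k K) → K) :=
  LinearMap.pi fun i =>
    if h : (i : ℕ) = 0 then
      b • σ.symm.toLinearMap.comp (LinearMap.proj ⟨Module.finrank k K - 1, Nat.sub_lt Module.finrank_pos one_pos⟩)
    else σ.symm.toLinearMap.comp (LinearMap.proj ⟨(i : ℕ) - 1, lt_of_le_of_lt (Nat.sub_le _ _) i.2⟩)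

theorem yM_apply (b : k) (z : Fin (Module.finrank k K) → K) (i : Fin (Module.finrank k K)) :
    yM σ b z i = if h : (i : ℕ) = 0 then
      b • σ.symm (z ⟨Module.finrank k K - 1, Nat.sub_lt Module.finrank_pos one_pos⟩)
    else σ.symm (z ⟨(i : ℕ) - 1, lt_of_le_of_lt (Nat.sub_le _ _) i.2⟩) := by
  by_cases h : (i : ℕ) = 0
  · simp [yM, h]
  · simp [yM, h]

theorem yM_pow (b : k) (z : Fin (Module.finrank k K) → K) :
    ∀ (m : ℕ) (hm : m ≤ Module.finrank k K) (i : Fin (Module.finrank k K)),
      (yM σ b ^ m) z i = if h : m ≤ (i : ℕ) then (σ ^ m).symm (z ⟨(i : ℕ) - m, lt_of_le_of_lt (Nat.sub_le _ _) i.2⟩)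
        else b • (σ ^ m).symm (z ⟨(i : ℕ) + Module.finrank k K - m, by have := i.2; omega⟩)
  | 0, _, i => by
    rw [dif_pos (Nat.zero_le _), pow_zero, pow_zero]
    rfl
  | m + 1, hm, i => by
    rw [pow_succ', Module.End.mul_apply, yM_apply]
    have hs : ∀ c : K, σ.symm ((σ ^ m).symm c) = (σ ^ (m + 1)).symm c := fun c => by
      rw [pow_succ]; rfl
    have hi := i.2
    by_cases h : (i : ℕ) = 0
    · rw [dif_pos h, dif_neg (by omega), yM_pow b z m (by omega), dif_pos (by show m ≤ _ - 1; omega), hs]
      congr 3
      exact Fin.ext (by simp only [Fin.val_mk]; omega)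
    · rw [dif_neg h, yM_pow b z m (by omega)]
      by_cases h2 : m + 1 ≤ (i : ℕ)
      · rw [dif_pos h2, dif_pos (by show m ≤ (i : ℕ) - 1; omega), hs]
        congr 2
        exact Fin.ext (by simp only [Fin.val_mk]; omega)
      · rw [dif_neg h2, dif_neg (by show ¬ m ≤ (i : ℕ) - 1; omega), map_smul, hs]
        congr 3
        exact Fin.ext (by simp only [Fin.val_mk]; omega)

variable [IsGalois k K]

theorem exists_cyclic {σ : K ≃ₐ[k] K} (hσ : ∀ τ : K ≃ₐ[k] K, τ ∈ Subgroup.zpowers σ) (b : kˣ) :
    ∃ (C : Type v) (_ : Ring C) (_ : Algebra k C), Nonempty (Pres σ b C) := by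
  have h : Rel σ (b : k) (ιM (k := k) (K := K)) (yM σ (b : k)) := by
    refine ⟨LinearMap.ext fun z => funext fun i => ?_, fun x => LinearMap.ext fun z => funext fun i => ?_⟩
    · rw [yM_pow σ _ z _ le_rfl, dif_neg (by have := i.2; omega), sigma_pow_finrank hσ]
      rw [show (⟨(i : ℕ) + Module.finrank k K - Module.finrank k K, by have := i.2; omega⟩ :
        Fin (Module.finrank k K)) = i from Fin.ext (by simp only [Fin.val_mk]; omega)]
      rfl
    · show x * yM σ (b : k) z i = yM σ (b : k) (fun j => σ x * z j) i
      rw [yM_apply, yM_apply]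
      split_ifs with h0
      · rw [map_mul, AlgEquiv.symm_apply_apply, mul_smul_comm]
      · rw [map_mul, AlgEquiv.symm_apply_apply]
  refine ⟨h.span, inferInstance, inferInstance, ⟨{
    ι := (ιM (k := k) (K := K)).codRestrict h.span h.ι_mem
    y := ⟨yM σ (b : k), h.y_mem⟩
    rel := ⟨Subtype.ext h.pow, fun x => Subtype.ext (h.comm x)⟩
    bij := ?_ }⟩⟩
  have hv : ∀ c, ((bas k ((ιM (k := k) (K := K)).codRestrict h.span h.ι_mem)
      (⟨yM σ (b : k), h.y_mem⟩ : h.span) c : h.span) : Module.End k _) =
      bas k (ιM (k := k) (K := K)) (yM σ (b : k)) c := fun c => by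
    rw [bas_apply, bas_apply, AddSubmonoidClass.coe_finset_sum]
    rfl
  constructor
  · intro c c' hcc
    have h1 : bas k (ιM (k := k) (K := K)) (yM σ (b : k)) c = bas k (ιM (k := k) (K := K)) (yM σ (b : k)) c' := by
      rw [← hv, ← hv, hcc]
    have key : ∀ c, bas k (ιM (k := k) (K := K)) (yM σ (b : k)) c
        (Pi.single ⟨0, Module.finrank_pos⟩ 1) = c := fun c => funext fun l => by
      rw [bas_apply, LinearMap.sum_apply, Finset.sum_apply, Finset.sum_eq_single l]
      · show c l * (yM σ (b : k) ^ (l : ℕ)) _ l = c l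
        rw [yM_pow σ _ _ _ l.2.le, dif_pos le_rfl, show (⟨(l : ℕ) - l, lt_of_le_of_lt (Nat.sub_le _ _) l.2⟩ :
          Fin (Module.finrank k K)) = ⟨0, Module.finrank_pos⟩ from Fin.ext (by simp), Pi.single_eq_same,
          map_one, mul_one]
      · intro j _ hj
        show c j * (yM σ (b : k) ^ (j : ℕ)) _ l = 0
        have hjl : (j : ℕ) ≠ l := fun e => hj (Fin.ext e)
        rw [yM_pow σ _ _ _ j.2.le]
        have := j.2
        split_ifs with h0
        · rw [Pi.single_eq_of_ne (fun e => hjl (by have := congrArg Fin.val e; simp at this; omega)), map_zero, mul_zero]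
        · rw [Pi.single_eq_of_ne (fun e => by have := congrArg Fin.val e; simp at this; omega), map_zero,
            smul_zero, mul_zero]
      · simp
    rw [← key c, ← key c', h1]
  · intro x
    obtain ⟨c, hc⟩ := x.2
    exact ⟨c, Subtype.ext ((hv c).trans hc)⟩

end Exists

section Split

variable [IsGalois k K] (hσ : ∀ τ : K ≃ₐ[k] K, τ ∈ Subgroup.zpowers σ)
variable {A : Type w} [Ring A] [Algebra k A] {b : kˣ} (P : Pres σ b A)

include hσ P

/-- The norm criterion. -/
theorem Pres.split_iff : IndDvd k A 1 ↔ ∃ x : K, Algebra.norm k x = (b : k) := by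
  haveI := P.finite
  haveI := P.nontrivial
  have hn : 0 < Module.finrank k K := Module.finrank_pos
  constructor
  · rintro ⟨N, f, h0, hN⟩
    rw [P.finrank, mul_one, mul_one] at hN
    have hN' : N = Module.finrank k K := Nat.mul_self_inj.1 hN
    let g : A →ₐ[k] Module.End k (Fin N → k) := Matrix.toLinAlgEquiv'.toAlgHom.comp f
    letI : Module K (Fin N → k) := Module.compHom _ (g.comp P.ι).toRingHom
    haveI : IsScalarTower k K (Fin N → k) := ⟨fun r x v => by
      show g (P.ι (r • x)) v = r • g (P.ι x) v
      rw [map_smul, map_smul]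
      rfl⟩
    have h1 : Module.finrank K (Fin N → k) = 1 := by
      have := Module.finrank_mul_finrank k K (Fin N → k)
      rw [Module.finrank_fin_fun] at this
      exact (Nat.mul_eq_left hn.ne').1 (this.trans hN')
    let v : Fin N → k := Pi.single ⟨0, h0⟩ 1
    have hv : v ≠ 0 := fun hv => by simpa [v] using congrFun hv ⟨0, h0⟩
    obtain ⟨x, hx⟩ := exists_smul_eq_of_finrank_eq_one h1 hv (g P.y v)
    change g (P.ι x) v = g P.y v at hx
    have hpow : ∀ m : ℕ, g (P.y ^ m) v = g (P.ι (∏ i ∈ Finset.range m, (σ ^ i).symm x)) v := by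
      intro m
      induction m with
      | zero => simp
      | succ m ih =>
        rw [pow_succ, map_mul, Module.End.mul_apply, ← hx, ← Module.End.mul_apply, ← map_mul,
          P.rel.pow_comm, map_mul, Module.End.mul_apply, ih, ← Module.End.mul_apply, ← map_mul, ← map_mul,
          Finset.prod_range_succ, mul_comm]
    refine ⟨x, ?_⟩
    have h2 := hpow (Module.finrank k K)
    rw [P.rel.pow, prod_range_eq_norm hσ, AlgHom.commutes, AlgHom.commutes, AlgHom.commutes] at h2
    simp only [Module.algebraMap_end_apply] at h2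
    exact (smul_left_injective k hv h2).symm
  · rintro ⟨x, hx⟩
    let y' : Module.End k K := (LinearMap.mulLeft k x).comp σ.symm.toLinearMap
    have hpow : ∀ (m : ℕ) (z : K),
        (y' ^ m) z = (∏ i ∈ Finset.range m, (σ ^ i).symm x) * (σ ^ m).symm z := by
      intro m
      induction m with
      | zero =>
        intro z
        rw [Finset.prod_range_zero, one_mul, pow_zero, pow_zero]
        rfl
      | succ m ih =>
        intro z
        rw [pow_succ, Module.End.mul_apply, ih]
        show _ * (σ ^ m).symm (x * σ.symm z) = _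
        rw [map_mul, Finset.prod_range_succ, mul_assoc, pow_succ' σ]
        rfl
    have h' : Rel σ (b : k) (Algebra.lmul k K) y' := by
      refine ⟨LinearMap.ext fun z => ?_, fun c => LinearMap.ext fun z => ?_⟩
      · rw [hpow, prod_range_eq_norm hσ, hx, sigma_pow_finrank hσ, Module.algebraMap_end_apply, Algebra.smul_def]
        rfl
      · show c * (x * σ.symm z) = x * σ.symm (σ c * z)
        rw [map_mul, AlgEquiv.symm_apply_apply, mul_left_comm]
    refine ⟨_, (algEquivMatrix (Module.finBasis k K)).toAlgHom.comp (P.lift h'), hn, ?_⟩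
    rw [P.finrank, mul_one, mul_one]

end Split

end Groth.Agent.CycAlgP
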