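import Groth.Agent.CycAlgP.Model
import Groth.Agent.GalDesc.Basic

/-! The product of two cyclic algebras. -/

set_option autoImplicit false

universe u v w w' v'

open scoped TensorProduct

namespace Groth.Agent.CycAlgP

open Groth.Agent.Brauer

variable {k : Type u} [Field k] {K : Type v} [Field K] [Algebra k K]

/-- The evaluation at the automorphisms. -/
noncomputable def evAut (k : Type u) [Field k] (K : Type v) [Field K] [Algebra k K] :
    K ⊗[k] K →ₐ[K] ((K ≃ₐ[k] K) → K) :=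
  Algebra.TensorProduct.lift (Algebra.ofId K _) (Pi.algHom k _ fun τ => τ.toAlgHom)
    fun x y => Algebra.commutes x _

theorem evAut_tmul (a c : K) (τ : K ≃ₐ[k] K) : evAut k K (a ⊗ₜ[k] c) τ = a * τ c := by
  rw [evAut, Algebra.TensorProduct.lift_tmul]
  rfl

/-- Twist of the first factor. -/
noncomputable def twistL (g : K ≃ₐ[k] K) : K ⊗[k] K →ₐ[k] K ⊗[k] K :=
  Algebra.TensorProduct.map g.toAlgHom (AlgHom.id k K)

/-- Twist of the second factor. -/
noncomputable def twistR (g : K ≃ₐ[k] K) : K ⊗[k] K →ₐ[k] K ⊗[k] K :=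
  Algebra.TensorProduct.map (AlgHom.id k K) g.toAlgHom

theorem evAut_twistL (g τ : K ≃ₐ[k] K) (t : K ⊗[k] K) :
    evAut k K (twistL g t) τ = g (evAut k K t (g⁻¹ * τ)) := by
  induction t using TensorProduct.induction_on with
  | zero => simp
  | tmul a c =>
    rw [twistL, Algebra.TensorProduct.map_tmul, evAut_tmul, evAut_tmul, AlgEquiv.mul_apply, map_mul]
    show g a * τ c = g a * g (g.symm (τ c))
    rw [AlgEquiv.apply_symm_apply]
  | add x y hx hy => rw [map_add, map_add, map_add, Pi.add_apply, Pi.add_apply, map_add, hx, hy]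

theorem evAut_twistR (g τ : K ≃ₐ[k] K) (t : K ⊗[k] K) :
    evAut k K (twistR g t) τ = evAut k K t (τ * g) := by
  induction t using TensorProduct.induction_on with
  | zero => simp
  | tmul a c =>
    rw [twistR, Algebra.TensorProduct.map_tmul, evAut_tmul, evAut_tmul]
    rfl
  | add x y hx hy => rw [map_add, map_add, map_add, Pi.add_apply, Pi.add_apply, hx, hy]

variable [FiniteDimensional k K] [IsGalois k K]

theorem evAut_injective : Function.Injective (evAut k K) := by
  classical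
  obtain ⟨ι, _, a, c, hac⟩ := GalDesc.exists_delta k K
  have hs : Function.Surjective (evAut k K).toLinearMap := fun f => by
    refine ⟨∑ τ : K ≃ₐ[k] K, f τ • ∑ j, a j ⊗ₜ[k] τ.symm (c j), funext fun ρ => ?_⟩
    simp only [AlgHom.toLinearMap_apply, map_sum, map_smul, Finset.sum_apply, Pi.smul_apply, evAut_tmul]
    rw [Finset.sum_eq_single ρ]
    · have h1 : ∑ j, a j * ρ (ρ.symm (c j)) = 1 := by simpa [AlgEquiv.apply_symm_apply] using hac 1
      rw [h1, smul_eq_mul, mul_one]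
    · intro τ _ hτ
      have h0 : ∑ j, a j * ρ (τ.symm (c j)) = 0 := by
        have := hac (ρ * τ⁻¹)
        rw [if_neg fun e => hτ (mul_inv_eq_one.1 e).symm] at this
        exact this
      rw [h0, smul_zero]
    · simp
  refine (LinearMap.injective_iff_surjective_of_finrank_eq_finrank ?_).2 hs
  rw [Module.finrank_baseChange, Module.finrank_pi, ← Nat.card_eq_fintype_card, IsGalois.card_aut_eq_finrank]

open scoped Classical in
theorem exists_diag : ∃ e : K ⊗[k] K, ∀ τ, evAut k K e τ = if τ = 1 then 1 else 0 := by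
  obtain ⟨ι, _, a, c, hac⟩ := GalDesc.exists_delta k K
  refine ⟨∑ j, a j ⊗ₜ[k] c j, fun τ => ?_⟩
  rw [← hac τ, map_sum, Finset.sum_apply]
  exact Finset.sum_congr rfl fun j _ => evAut_tmul _ _ _

variable {σ : K ≃ₐ[k] K}
variable {A : Type w} [Ring A] [Algebra k A] {B : Type w'} [Ring B] [Algebra k B] {E : Type v'} [Ring E]
  [Algebra k E] {b b' : kˣ}

set_option maxHeartbeats 800000 in
open scoped Classical in
/-- `(b) ⊗ (b') = (bb')` up to matrices. -/
theorem tensor_equiv (hσ : ∀ τ : K ≃ₐ[k] K, τ ∈ Subgroup.zpowers σ) (P : Pres σ b A) (Q : Pres σ b' B)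
    (R : Pres σ (b * b') E) :
    Nonempty (A ⊗[k] B ≃ₐ[k] Matrix (Fin (Module.finrank k K)) (Fin (Module.finrank k K)) E) := by
  obtain ⟨e, he⟩ := exists_diag (k := k) (K := K)
  have hinj := evAut_injective (k := k) (K := K)
  let Ψ : K ⊗[k] K →ₐ[k] A ⊗[k] B := Algebra.TensorProduct.map P.ι Q.ι
  have hee : e * e = e := hinj (funext fun τ => by rw [map_mul, Pi.mul_apply, he]; split_ifs <;> simp)
  have horth : ∀ d : ℕ, ¬ Module.finrank k K ∣ d → e * twistL (σ ^ d).symm e = 0 := fun d hd =>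
    hinj (funext fun τ => by
      rw [map_mul, Pi.mul_apply, evAut_twistL, he, he, map_zero, Pi.zero_apply]
      split_ifs with h1 h2
      · exact absurd ((sigma_pow_eq_one hσ d).1 (by
          rw [h1, mul_one] at h2
          have h3 : ((σ ^ d).symm)⁻¹ = σ ^ d := AlgEquiv.ext fun x => rfl
          rwa [h3] at h2)) hd
      · rw [map_zero, mul_zero]
      · rw [zero_mul]
      · rw [zero_mul])
  have hsum : ∑ i : Fin (Module.finrank k K), twistL (σ ^ (i : ℕ)).symm e = 1 := hinj (funext fun τ => by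
    obtain ⟨i₀, hi₀⟩ := (pow_bijective hσ).2 τ
    rw [map_sum, Finset.sum_apply, map_one, Pi.one_apply, Finset.sum_eq_single i₀]
    · rw [evAut_twistL, he, if_pos (show ((σ ^ (i₀ : ℕ)).symm)⁻¹ * τ = 1 by rw [← hi₀, inv_mul_cancel]), map_one]
    · intro j _ hj
      rw [evAut_twistL, he, if_neg fun h => hj ((pow_bijective hσ).1 ((inv_mul_eq_one.1 h).trans hi₀.symm)),
        map_zero]
    · simp)
  have hfix : twistL σ.symm (twistR σ.symm e) = e := hinj (funext fun τ => by
    rw [evAut_twistL, evAut_twistR, he, he, apply_ite σ.symm, map_one, map_zero]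
    refine if_congr ?_ rfl rfl
    show (σ.symm)⁻¹ * τ * σ.symm = 1 ↔ τ = 1
    rw [mul_assoc, inv_mul_eq_one]
    exact ⟨fun h => mul_eq_right.1 h.symm, fun h => by rw [h, one_mul]⟩)
  obtain ⟨U₀, hU₀⟩ := P.isUnit_y
  let U : (A ⊗[k] B)ˣ := Units.map (Algebra.TensorProduct.includeLeft (R := k) (S := k) (A := A) (B := B) : A →* A ⊗[k] B) U₀
  let u : A ⊗[k] B := P.y ⊗ₜ[k] (1 : B)
  have hUu : (U : A ⊗[k] B) = u := by
    show U₀.1 ⊗ₜ[k] (1 : B) = P.y ⊗ₜ[k] (1 : B)
    rw [hU₀]
  let v : A ⊗[k] B := ((U⁻¹ : (A ⊗[k] B)ˣ) : A ⊗[k] B)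
  have huv : ∀ d : ℕ, u ^ d * v ^ d = 1 := fun d => by
    rw [← hUu, ← Units.val_pow_eq_pow_val, ← Units.val_pow_eq_pow_val, inv_pow, Units.mul_inv]
  have hvu : ∀ d : ℕ, v ^ d * u ^ d = 1 := fun d => by
    rw [← hUu, ← Units.val_pow_eq_pow_val, ← Units.val_pow_eq_pow_val, inv_pow, Units.inv_mul]
  have hconj : ∀ (d : ℕ) (t : K ⊗[k] K), u ^ d * Ψ t = Ψ (twistL (σ ^ d).symm t) * u ^ d := by
    intro d t
    rw [Algebra.TensorProduct.tmul_pow, one_pow]
    induction t using TensorProduct.induction_on with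
    | zero => simp
    | tmul a c =>
      show (P.y ^ d) ⊗ₜ[k] (1 : B) * (P.ι a ⊗ₜ[k] Q.ι c) = (P.ι ((σ ^ d).symm a) ⊗ₜ[k] Q.ι c) * _
      rw [Algebra.TensorProduct.tmul_mul_tmul, Algebra.TensorProduct.tmul_mul_tmul, P.rel.pow_comm, one_mul, mul_one]
    | add x y hx hy => rw [map_add, map_add, map_add, mul_add, add_mul, hx, hy]
  have hkey : ∀ j l : Fin (Module.finrank k K),
      Ψ e * v ^ (j : ℕ) * (u ^ (l : ℕ) * Ψ e) = if j = l then Ψ e else 0 := by
    intro j l
    have hj := j.2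
    have hl := l.2
    split_ifs with h
    · subst h
      rw [mul_assoc, ← mul_assoc (v ^ (j : ℕ)), hvu, one_mul, ← map_mul, hee]
    · rcases Nat.lt_or_gt_of_ne (Fin.val_ne_of_ne h) with hlt | hlt
      · have hd : ¬ Module.finrank k K ∣ (l : ℕ) - j := fun hdv =>
          absurd (Nat.le_of_dvd (by omega) hdv) (by omega)
        rw [show (l : ℕ) = j + (l - j) by omega, pow_add, mul_assoc (u ^ (j : ℕ)), mul_assoc (Ψ e),
          ← mul_assoc (v ^ (j : ℕ)), hvu, one_mul, hconj, ← mul_assoc, ← map_mul, horth _ hd, map_zero,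
          zero_mul]
      · have hd : ¬ Module.finrank k K ∣ (j : ℕ) - l := fun hdv =>
          absurd (Nat.le_of_dvd (by omega) hdv) (by omega)
        have hstep : Ψ e * v ^ ((j : ℕ) - l) = v ^ ((j : ℕ) - l) * Ψ (twistL (σ ^ ((j : ℕ) - l)).symm e) :=
          calc Ψ e * v ^ ((j : ℕ) - l)
              = v ^ ((j : ℕ) - l) * u ^ ((j : ℕ) - l) * (Ψ e * v ^ ((j : ℕ) - l)) := by rw [hvu, one_mul]
            _ = v ^ ((j : ℕ) - l) * (u ^ ((j : ℕ) - l) * Ψ e * v ^ ((j : ℕ) - l)) := by simp only [mul_assoc]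
            _ = _ := by rw [hconj, mul_assoc (Ψ (twistL _ e)), huv, mul_one]
        conv_lhs => rw [show (j : ℕ) = (j - l) + l by omega, pow_add]
        rw [mul_assoc, mul_assoc (v ^ ((j : ℕ) - l)), ← mul_assoc (v ^ (l : ℕ)), hvu, one_mul, ← mul_assoc,
          hstep, mul_assoc, ← map_mul, mul_comm (twistL _ e) e, horth _ hd, map_zero, mul_zero]
  let Θl : Matrix (Fin (Module.finrank k K)) (Fin (Module.finrank k K)) k →ₗ[k] A ⊗[k] B :=
    ∑ i, ∑ j, ((Matrix.entryLinearMap k k i j).smulRight (u ^ (i : ℕ) * Ψ e * v ^ (j : ℕ)))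
  have hΘ : ∀ M, Θl M = ∑ i, ∑ j, M i j • (u ^ (i : ℕ) * Ψ e * v ^ (j : ℕ)) := fun M => by
    simp [Θl, LinearMap.sum_apply]
  let Θ : Matrix (Fin (Module.finrank k K)) (Fin (Module.finrank k K)) k →ₐ[k] A ⊗[k] B :=
    AlgHom.ofLinearMap Θl (by
      rw [hΘ]
      simp only [Matrix.one_apply, ite_smul, one_smul, zero_smul, Finset.sum_ite_eq, Finset.mem_univ, if_true]
      simp only [hconj]
      simp only [mul_assoc, huv, mul_one]
      rw [← map_sum, hsum, map_one]) (fun M N => by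
      rw [hΘ, hΘ, hΘ, Finset.sum_mul]
      refine Finset.sum_congr rfl fun i _ => ?_
      rw [Finset.sum_mul, Finset.sum_congr rfl fun j _ => show
        M i j • (u ^ (i : ℕ) * Ψ e * v ^ (j : ℕ)) * ∑ l, ∑ m, N l m • (u ^ (l : ℕ) * Ψ e * v ^ (m : ℕ)) =
          ∑ m, (M i j * N j m) • (u ^ (i : ℕ) * Ψ e * v ^ (m : ℕ)) from ?_, Finset.sum_comm]
      · simp only [Matrix.mul_apply, Finset.sum_smul]
      · rw [Finset.mul_sum, Finset.sum_eq_single j]
        · rw [Finset.mul_sum]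
          refine Finset.sum_congr rfl fun m _ => ?_
          rw [smul_mul_assoc, mul_smul_comm, smul_smul]
          congr 1
          rw [show u ^ (i : ℕ) * Ψ e * v ^ (j : ℕ) * (u ^ (j : ℕ) * Ψ e * v ^ (m : ℕ)) =
            u ^ (i : ℕ) * (Ψ e * v ^ (j : ℕ) * (u ^ (j : ℕ) * Ψ e)) * v ^ (m : ℕ) by simp only [mul_assoc],
            hkey, if_pos rfl]
        · intro l _ hl
          rw [Finset.mul_sum]
          refine Finset.sum_eq_zero fun m _ => ?_
          rw [smul_mul_assoc, mul_smul_comm, smul_smul,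
            show u ^ (i : ℕ) * Ψ e * v ^ (j : ℕ) * (u ^ (l : ℕ) * Ψ e * v ^ (m : ℕ)) =
              u ^ (i : ℕ) * (Ψ e * v ^ (j : ℕ) * (u ^ (l : ℕ) * Ψ e)) * v ^ (m : ℕ) by simp only [mul_assoc],
            hkey, if_neg hl.symm, mul_zero, zero_mul, smul_zero]
        · simp)
  let ι'' : K →ₐ[k] A ⊗[k] B := (Algebra.TensorProduct.includeRight : B →ₐ[k] A ⊗[k] B).comp Q.ι
  let y'' : A ⊗[k] B := P.y ⊗ₜ[k] Q.y
  have hrel : Rel σ ((b * b' : kˣ) : k) ι'' y'' := by
    refine ⟨?_, fun x => ?_⟩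
    · rw [Algebra.TensorProduct.tmul_pow, P.rel.pow, Q.rel.pow]
      simp [Algebra.algebraMap_eq_smul_one, TensorProduct.tmul_smul, ← TensorProduct.smul_tmul', smul_smul,
        mul_comm, Algebra.TensorProduct.one_def]
    · show ((1 : A) ⊗ₜ[k] Q.ι x) * (P.y ⊗ₜ[k] Q.y) = (P.y ⊗ₜ[k] Q.y) * ((1 : A) ⊗ₜ[k] Q.ι (σ x))
      rw [Algebra.TensorProduct.tmul_mul_tmul, Algebra.TensorProduct.tmul_mul_tmul, Q.rel.comm, one_mul, mul_one]
  have hcu : ∀ x, Commute (R.lift hrel x) u := by
    intro x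
    induction x using R.induction with
    | h0 => rw [map_zero]; exact Commute.zero_left _
    | hadd p q hp hq => rw [map_add]; exact hp.add_left hq
    | hm a i =>
      rw [R.lift_monomial]
      refine Commute.mul_left ?_ (Commute.pow_left ?_ _)
      · show ((1 : A) ⊗ₜ[k] Q.ι a) * (P.y ⊗ₜ[k] (1 : B)) = (P.y ⊗ₜ[k] (1 : B)) * ((1 : A) ⊗ₜ[k] Q.ι a)
        simp
      · show (P.y ⊗ₜ[k] Q.y) * (P.y ⊗ₜ[k] (1 : B)) = (P.y ⊗ₜ[k] (1 : B)) * (P.y ⊗ₜ[k] Q.y)
        simp
  have hce : ∀ x, Commute (R.lift hrel x) (Ψ e) := by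
    intro x
    induction x using R.induction with
    | h0 => rw [map_zero]; exact Commute.zero_left _
    | hadd p q hp hq => rw [map_add]; exact hp.add_left hq
    | hm a i =>
      rw [R.lift_monomial]
      refine Commute.mul_left ?_ (Commute.pow_left ?_ _)
      · rw [show ι'' a = Ψ ((1 : K) ⊗ₜ[k] a) by simp [ι'', Ψ]]
        exact ((Commute.all ((1 : K) ⊗ₜ[k] a) e).map Ψ)
      · have hyt : ∀ t, (P.y ⊗ₜ[k] Q.y) * Ψ t = Ψ (twistL σ.symm (twistR σ.symm t)) * (P.y ⊗ₜ[k] Q.y) := by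
          intro t
          induction t using TensorProduct.induction_on with
          | zero => simp
          | tmul a c =>
            show (P.y ⊗ₜ[k] Q.y) * (P.ι a ⊗ₜ[k] Q.ι c) = (P.ι (σ.symm a) ⊗ₜ[k] Q.ι (σ.symm c)) * _
            rw [Algebra.TensorProduct.tmul_mul_tmul, Algebra.TensorProduct.tmul_mul_tmul, P.rel.comm, Q.rel.comm,
              AlgEquiv.apply_symm_apply, AlgEquiv.apply_symm_apply]
          | add x y hx hy => rw [map_add, map_add, map_add, map_add, mul_add, add_mul, hx, hy]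
        show (P.y ⊗ₜ[k] Q.y) * Ψ e = Ψ e * _
        rw [hyt, hfix]
  have hcomm : ∀ x M, Commute (R.lift hrel x) (Θ M) := fun x M => by
    show Commute _ (Θl M)
    rw [hΘ]
    refine Commute.sum_right _ _ _ fun i _ => Commute.sum_right _ _ _ fun j _ => Commute.smul_right ?_ _
    refine Commute.mul_right (Commute.mul_right ((hcu x).pow_right _) (hce x)) (Commute.pow_right ?_ _)
    exact Commute.units_inv_right (u := U) (by rw [hUu]; exact hcu x)
  let G := Algebra.TensorProduct.lift (R.lift hrel) Θ hcomm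
  have hA := P.isCSA hσ
  have hB := Q.isCSA hσ
  have hM : IsCSA k (Matrix (Fin (Module.finrank k K)) (Fin (Module.finrank k K)) k) :=
    haveI : NeZero (Module.finrank k K) := ⟨(Module.finrank_pos (R := k) (M := K)).ne'⟩
    ⟨inferInstance, inferInstance, inferInstance⟩
  have hEM := (R.isCSA hσ).tensor hM
  haveI := hEM.simple
  haveI := hEM.finite
  haveI := (hA.tensor hB).nontrivial
  haveI := (hA.tensor hB).finite
  have hG : Function.Injective G := RingHom.injective G.toRingHom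
  refine ⟨(AlgEquiv.ofBijective G ⟨hG, (LinearMap.injective_iff_surjective_of_finrank_eq_finrank
    (f := G.toLinearMap) ?_).1 hG⟩).symm.trans (matrixEquivTensor (Fin (Module.finrank k K)) k E).symm⟩
  rw [Module.finrank_tensorProduct, Module.finrank_tensorProduct, R.finrank, P.finrank, Q.finrank,
    Module.finrank_matrix, Fintype.card_fin, Module.finrank_self, mul_one]

end Groth.Agent.CycAlgP
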